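import Mathlib

/-!
# Principality of height one primes of invariant rings with trivial residue extension
-/

set_option autoImplicit false
universe u

namespace GrothLib.InvariantDiv

variable {A B G : Type u} [CommRing A] [IsDomain A] [IsNoetherianRing A]
  [CommRing B] [Algebra B A] [Group G] [MulSemiringAction G A] [FaithfulSMul G A] [SMulCommClass G B A]
  {q : Ideal B} {p : Ideal A} {x : A}

theorem smul_algebraMap' (g : G) (b : B) : g • algebraMap B A b = algebraMap B A b := by
  rw [Algebra.algebraMap_eq_smul_one, smul_comm, smul_one]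

/-- An element of `q` is divisible by as high a power of `x` as there are elements fixing `(x)`. -/
theorem pow_card_dvd (hx : Prime x) (hp : p = Ideal.span {x}) (hpq : p.comap (algebraMap B A) = q) (hq : q.IsPrime)
    (hres : ∀ a : A, ∃ b c : B, c ∉ q ∧ algebraMap B A c * a - algebraMap B A b ∈ p)
    (D : Finset G) (hD : ∀ g ∈ D, x ∣ g • x) (b : B) (hb : b ∈ q) : x ^ D.card ∣ algebraMap B A b := by
  classical
  by_contra hnot
  have hb0 : algebraMap B A b ≠ 0 := fun h => hnot (h ▸ dvd_zero _)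
  have hmem : ∀ c : B, c ∈ q ↔ x ∣ algebraMap B A c := fun c => by
    rw [← hpq, Ideal.mem_comap, hp, Ideal.mem_span_singleton]
  obtain ⟨e, u, hu, hbu⟩ := WfDvdMonoid.max_power_factor hb0 hx.irreducible
  have he : e < D.card := by
    by_contra hle
    exact hnot (hbu ▸ (pow_dvd_pow x (not_lt.1 hle)).mul_right u)
  have he1 : 1 ≤ e := by
    by_contra h0
    refine hu ?_
    have := (hmem b).1 hb
    rwa [hbu, show e = 0 by omega, pow_zero, one_mul] at this
  have hstep : ∀ (Q : ℕ) (a : A), ∃ γ β : B, γ ∉ q ∧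
      x ∣ algebraMap B A γ * a - algebraMap B A β * u ^ Q := by
    intro Q a
    obtain ⟨b₁, c₁, hc₁, h₁⟩ := hres a
    obtain ⟨b₂, c₂, hc₂, h₂⟩ := hres (u ^ Q)
    rw [hp, Ideal.mem_span_singleton] at h₁ h₂
    have hb₂ : b₂ ∉ q := fun h => by
      have h3 : x ∣ algebraMap B A c₂ * u ^ Q := by
        have := dvd_add h₂ ((hmem b₂).1 h)
        rwa [sub_add_cancel] at this
      rcases hx.dvd_or_dvd h3 with h4 | h4
      · exact hc₂ ((hmem c₂).2 h4)
      · exact hu (hx.dvd_of_dvd_pow h4)
    refine ⟨b₂ * c₁, b₁ * c₂, fun h => (hq.mem_or_mem h).elim hb₂ hc₁, ?_⟩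
    have := dvd_sub (h₁.mul_left (algebraMap B A b₂)) (h₂.mul_left (algebraMap B A b₁))
    rw [map_mul, map_mul]
    convert this using 1
    ring
  have hexp : ∀ (N : ℕ) (a : A), ∃ (c : B) (β : Fin e → B), c ∉ q ∧
      x ^ N ∣ algebraMap B A c * a - ∑ i, algebraMap B A (β i) * x ^ (i : ℕ) := by
    intro N a
    induction N with
    | zero => exact ⟨1, 0, fun h => hq.ne_top ((Ideal.eq_top_iff_one q).2 h), by simp⟩
    | succ N ih =>
      obtain ⟨c, β, hc, hdvd⟩ := ih
      obtain ⟨a₁, ha₁⟩ := hdvd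
      obtain ⟨γ, β', hγ, hγ'⟩ := hstep (N / e) a₁
      let i₀ : Fin e := ⟨N % e, Nat.mod_lt _ he1⟩
      refine ⟨γ * c, fun i => γ * β i + if i = i₀ then β' * b ^ (N / e) else 0,
        fun h => (hq.mem_or_mem h).elim hγ hc, ?_⟩
      have hN : x ^ N = (x ^ e) ^ (N / e) * x ^ (i₀ : ℕ) := by
        rw [← pow_mul, ← pow_add, Nat.div_add_mod]
      have hkey : algebraMap B A (γ * c) * a - ∑ i, algebraMap B A (γ * β i + if i = i₀ then β' * b ^ (N / e) else 0) * x ^ (i : ℕ) =
          x ^ N * (algebraMap B A γ * a₁ - algebraMap B A β' * u ^ (N / e)) := by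
        simp only [map_add, map_mul, add_mul, Finset.sum_add_distrib, apply_ite (algebraMap B A), map_zero, ite_mul,
          zero_mul, Finset.sum_ite_eq', Finset.mem_univ, if_true, map_pow]
        rw [show (∑ i, algebraMap B A γ * algebraMap B A (β i) * x ^ (i : ℕ)) =
          algebraMap B A γ * ∑ i, algebraMap B A (β i) * x ^ (i : ℕ) by
            rw [Finset.mul_sum]; exact Finset.sum_congr rfl fun i _ => mul_assoc _ _ _, hbu, mul_pow, hN]
        have := hN ▸ ha₁
        linear_combination (algebraMap B A γ) * this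
      rw [hkey, pow_succ]
      exact mul_dvd_mul_left _ hγ'
  have hli : LinearIndependent A (fun g : D => fun a : A => (g : G) • a) := by
    refine (linearIndependent_monoidHom A A).comp
      (fun g : D => (MulSemiringAction.toRingHom G A (g : G)).toMonoidHom) fun g h hgh => Subtype.ext ?_
    exact FaithfulSMul.eq_of_smul_eq_smul fun a => DFunLike.congr_fun hgh a
  obtain ⟨lam, hlam, j, hj⟩ : ∃ lam : D → A, (∀ i : Fin e, ∑ g : D, lam g * ((g : G) • x ^ (i : ℕ)) = 0) ∧
      ∃ j, lam j ≠ 0 := by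
    have hdep : ¬ LinearIndependent A (fun g : D => fun i : Fin e => (g : G) • x ^ (i : ℕ)) := fun h => by
      have := h.fintype_card_le_finrank
      rw [Module.finrank_fin_fun, Fintype.card_coe] at this
      omega
    obtain ⟨lam, hlam, j, hj⟩ := Fintype.not_linearIndependent_iff.1 hdep
    exact ⟨lam, fun i => by simpa using congrFun hlam i, j, hj⟩
  refine hj (Fintype.linearIndependent_iff.1 hli lam ?_ j)
  funext a
  rw [Finset.sum_apply]
  show ∑ g : D, lam g * ((g : G) • a) = 0
  by_contra hne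
  obtain ⟨M, hM⟩ := FiniteMultiplicity.of_prime_left hx hne
  obtain ⟨c, β, hc, hdvd⟩ := hexp (M + 1) a
  have hg : ∀ g : D, x ^ (M + 1) ∣ algebraMap B A c * ((g : G) • a) -
      ∑ i, algebraMap B A (β i) * ((g : G) • x ^ (i : ℕ)) := fun g => by
    obtain ⟨w, hw⟩ := hdvd
    have h1 := congrArg ((g : G) • ·) hw
    simp only [smul_sub, smul_mul', smul_algebraMap', Finset.smul_sum, smul_pow'] at h1
    simp only [smul_pow']
    rw [h1]
    exact (pow_dvd_pow_of_dvd (hD g g.2) _).mul_right _
  have hsum : x ^ (M + 1) ∣ algebraMap B A c * ∑ g : D, lam g * ((g : G) • a) := by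
    have h1 : x ^ (M + 1) ∣ ∑ g : D, lam g * (algebraMap B A c * ((g : G) • a) -
        ∑ i, algebraMap B A (β i) * ((g : G) • x ^ (i : ℕ))) :=
      Finset.dvd_sum fun g _ => (hg g).mul_left _
    convert h1 using 1
    simp only [mul_sub, Finset.sum_sub_distrib, Finset.mul_sum]
    rw [Finset.sum_comm (s := (Finset.univ : Finset D))]
    have : ∀ i : Fin e, ∑ g : D, lam g * (algebraMap B A (β i) * ((g : G) • x ^ (i : ℕ))) = 0 := fun i => by
      rw [← mul_zero (algebraMap B A (β i)), ← hlam i, Finset.mul_sum]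
      exact Finset.sum_congr rfl fun g _ => by ring
    simp only [this, Finset.sum_const_zero, sub_zero]
    exact Finset.sum_congr rfl fun g _ => by ring
  exact hM (hx.pow_dvd_of_dvd_mul_left _ (fun h => hc ((hmem c).2 h)) hsum)

theorem prod_pow_dvd {M : Type u} [CommMonoidWithZero M] [IsCancelMulZero M] [Subsingleton Mˣ] (S : Finset M)
    (hS : ∀ a ∈ S, Prime a) (n : M → ℕ) (b : M) (hb : ∀ a ∈ S, a ^ n a ∣ b) : ∏ a ∈ S, a ^ n a ∣ b := by
  classical
  induction S using Finset.induction_on with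
  | empty => simp
  | insert a S ha ih =>
    obtain ⟨c, hc⟩ := ih (fun a' h => hS a' (Finset.mem_insert_of_mem h)) fun a' h => hb a' (Finset.mem_insert_of_mem h)
    have hpa := hS a (Finset.mem_insert_self a S)
    rw [Finset.prod_insert ha, hc, mul_comm]
    refine mul_dvd_mul_left _ (hpa.pow_dvd_of_dvd_mul_left _ (fun h => ?_) (hc ▸ hb a (Finset.mem_insert_self a S)))
    obtain ⟨a', ha', hdvd⟩ := hpa.exists_mem_finset_dvd h
    have := (hpa.dvd_prime_iff_associated (hS a' (Finset.mem_insert_of_mem ha'))).1 (hpa.dvd_of_dvd_pow hdvd)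
    exact ha (associated_iff_eq.1 this ▸ ha')

end GrothLib.InvariantDiv
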